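import Cfsg.Agent.H534.CC.Defs

/-!
# Criteria for `Row p G` (S3828)

* `Row.congr` : transport along an isomorphism;
* `Row.of_not_dvd`, `Row.of_forall`, `Row.of_index`, `Row.of_two`, `Row.of_coatoms`;
* `Bad.cent_eq_one` : no nontrivial element of `C` commutes with `x`, if `O_p(C(x)) = 1`;
* `Bad.not_normalize` : then no nontrivial element of `C` normalizes a nontrivial `s`-subgroup;
* `Bad.closure_pair` : `⟨c, c^g⟩ = G` for `g ∉ M c`;
* `Bad.sq_ne_one` : `C` has no involutions;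
* `Row.of_not_real` : no nontrivial `p`-element is conjugate to its inverse.
-/

set_option autoImplicit false

namespace Cfsg.Agent.H534.CC

open Subgroup

variable {p : ℕ} {G : Type*} [Group G] {C : Set G}

/-- the normal `p`-subgroups of `H` (as subgroups of `G`) are trivial -/
def NoCore (p : ℕ) (H : Subgroup G) : Prop :=
  ∀ Q : Subgroup G, Q ≤ H → (∀ x ∈ H, ∀ q ∈ Q, x * q * x⁻¹ ∈ Q) → IsPGroup p ↥Q → Q = ⊥

theorem Row.congr {G' : Type*} [Group G'] (e : G ≃* G') (h : Row p G) : Row p G' := by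
  intro C' hC'
  have hmap : ∀ H : Subgroup G, H ≠ ⊤ → H.map e.toMonoidHom ≠ ⊤ := by
    intro H hH ht
    apply hH
    have := congrArg (Subgroup.comap e.toMonoidHom) ht
    rwa [comap_map_eq_self_of_injective e.injective, comap_top] at this
  apply h (e ⁻¹' C')
  refine ⟨?_, ?_, ?_, ?_, ?_, ?_, ?_, ?_⟩
  · obtain ⟨c, hc, hc1⟩ := hC'.ex
    refine ⟨e.symm c, by simpa using hc, fun h1 => hc1 ?_⟩
    simpa using congrArg e h1
  · intro g c hc
    simpa using hC'.conj (e g) (e c) hc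
  · intro c hc
    obtain ⟨k, hk⟩ := hC'.pel (e c) hc
    exact ⟨k, e.injective (by simpa using hk)⟩
  · intro c hc d hd
    simpa using hC'.comm (e c) hc (e d) hd
  · intro c hc
    simpa using hC'.inv (e c) hc
  · intro H hH c hc hcH
    obtain ⟨Q, hcQ, hQH, hn, hQ⟩ := hC'.core _ (hmap H hH) (e c) hc ⟨c, hcH, rfl⟩
    refine ⟨Q.comap e.toMonoidHom, hcQ, ?_, ?_, ?_⟩
    · intro x hx
      obtain ⟨y, hy, hyx⟩ := hQH hx
      rwa [← e.injective hyx]
    · intro x hx q hq
      show e (x * q * x⁻¹) ∈ Q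
      simpa using hn (e x) ⟨x, hx, rfl⟩ (e q) hq
    · exact hQ.comap_of_injective e.toMonoidHom e.injective
  · intro c hc hc1
    obtain ⟨M, hM, hle⟩ := hC'.uniq (e c) hc (fun h1 => hc1 (e.injective (by simpa using h1)))
    refine ⟨M.comap e.toMonoidHom, ?_, ?_⟩
    · intro ht
      apply hM
      rw [eq_top_iff]
      intro x _
      have : e.symm x ∈ M.comap e.toMonoidHom := ht ▸ mem_top _
      simpa using this
    · intro H hH hcH x hx
      exact hle _ (hmap H hH) ⟨c, hcH, rfl⟩ ⟨x, hx, rfl⟩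
  · intro h5 c hc
    simpa using hC'.sq h5 (e c) hc

theorem Row.congr_iff {G' : Type*} [Group G'] (e : G ≃* G') : Row p G ↔ Row p G' :=
  ⟨Row.congr e, Row.congr e.symm⟩

theorem Row.of_not_dvd [Finite G] (hp : p.Prime) (h : ¬ p ∣ Nat.card G) : Row p G := by
  intro C hC
  obtain ⟨c, hc, hc1⟩ := hC.ex
  obtain ⟨k, hk⟩ := hC.pel c hc
  apply hc1
  have h1 : orderOf c ∣ p ^ k := orderOf_dvd_of_pow_eq_one hk
  have h2 : orderOf c ∣ Nat.card G := orderOf_dvd_natCard c
  have h3 : Nat.Coprime (p ^ k) (Nat.card G) :=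
    Nat.Coprime.pow_left _ ((Nat.Prime.coprime_iff_not_dvd hp).mpr h)
  exact orderOf_eq_one_iff.mp (Nat.eq_one_of_dvd_coprimes h3 h1 h2)

/-- Every nontrivial `p`-element `x` lies in a proper subgroup `H` with `x ∉ O_p(H)`. -/
theorem Row.of_forall (h : ∀ x : G, x ≠ 1 → (∃ k : ℕ, x ^ p ^ k = 1) → ∃ H : Subgroup G, H ≠ ⊤ ∧
    x ∈ H ∧ ∀ Q : Subgroup G, Q ≤ H → (∀ y ∈ H, ∀ q ∈ Q, y * q * y⁻¹ ∈ Q) → IsPGroup p ↥Q → x ∉ Q) :
    Row p G := by
  intro C hC
  obtain ⟨c, hc, hc1⟩ := hC.ex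
  obtain ⟨H, hH, hcH, hno⟩ := h c hc1 (hC.pel c hc)
  obtain ⟨Q, hcQ, hQH, hn, hQ⟩ := hC.core H hH c hc hcH
  exact hno Q hQH hn hQ hcQ

/-- conjugates of an element of `C` in a given Sylow subgroup -/
theorem Bad.exists_mem_sylow [Finite G] [hp : Fact p.Prime] (h : Bad p C) (P : Sylow p G) :
    ∃ c ∈ C, c ≠ 1 ∧ c ∈ (P : Subgroup G) := by
  obtain ⟨c, hc, hc1⟩ := h.ex
  obtain ⟨k, hk⟩ := h.pel c hc
  have hz : IsPGroup p (zpowers c) := by
    rw [IsPGroup.iff_card]
    have : Nat.card (zpowers c) ∣ p ^ k := by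
      rw [Nat.card_zpowers]; exact orderOf_dvd_of_pow_eq_one hk
    obtain ⟨m, -, hm⟩ := (Nat.dvd_prime_pow hp.out).mp this
    exact ⟨m, hm⟩
  obtain ⟨P', hP'⟩ := hz.exists_le_sylow
  obtain ⟨g, hg⟩ := MulAction.exists_smul_eq G P' P
  refine ⟨g * c * g⁻¹, h.conj g c hc, ?_, ?_⟩
  · intro h1
    apply hc1
    have h2 : c = g⁻¹ * (g * c * g⁻¹) * g := by group
    rw [h2, h1]; simp
  · rw [← hg, Sylow.coe_subgroup_smul]
    have : g * c * g⁻¹ = (MulAut.conj g) • c := by simp [MulAut.smul_def, MulAut.conj_apply]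
    rw [this]
    exact Subgroup.smul_mem_pointwise_smul _ _ _ (hP' (mem_zpowers c))

/-- A proper subgroup of index prime to `p` without normal `p`-subgroups. -/
theorem Row.of_index [Finite G] [hp : Fact p.Prime] {H : Subgroup G} (hH : H ≠ ⊤)
    (hi : ¬ p ∣ H.index) (hO : NoCore p H) : Row p G := by
  intro C hC
  obtain ⟨P⟩ : Nonempty (Sylow p H) := inferInstance
  have hP : IsPGroup p ((P : Subgroup H).map H.subtype) := P.isPGroup'.map _
  have hcard : Nat.card ((P : Subgroup H).map H.subtype) = p ^ (Nat.card G).factorization p := by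
    rw [Nat.card_congr ((P : Subgroup H).equivMapOfInjective _ H.subtype_injective).symm.toEquiv,
      P.card_eq_multiplicity]
    congr 1
    have h1 := H.card_mul_index
    rw [← h1, Nat.factorization_mul Nat.card_pos.ne' (by
      rw [← Nat.pos_iff_ne_zero]; exact Nat.pos_of_ne_zero H.index_ne_zero_of_finite)]
    simp [Nat.factorization_eq_zero_of_not_dvd hi]
  let P' : Sylow p G := Sylow.ofCard _ hcard
  obtain ⟨c, hc, hc1, hcP⟩ := hC.exists_mem_sylow P'
  have hcH : c ∈ H := by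
    have : c ∈ (P : Subgroup H).map H.subtype := hcP
    obtain ⟨y, -, rfl⟩ := this
    exact y.2
  exact hc1 (hC.eq_one_of_core hH hO hc hcH)

/-- Two proper subgroups containing a Sylow `p`-subgroup and generating `G`. -/
theorem Row.of_two [Finite G] [hp : Fact p.Prime] (P : Sylow p G) {H K : Subgroup G} (hH : H ≠ ⊤)
    (hK : K ≠ ⊤) (hPH : (P : Subgroup G) ≤ H) (hPK : (P : Subgroup G) ≤ K) (ht : H ⊔ K = ⊤) :
    Row p G := by
  intro C hC
  obtain ⟨c, hc, hc1, hcP⟩ := hC.exists_mem_sylow P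
  exact hC.sup_ne_top hc hc1 hH hK (hPH hcP) (hPK hcP) ht

/-- Two different maximal subgroups containing a Sylow `p`-subgroup. -/
theorem Row.of_coatoms [Finite G] [hp : Fact p.Prime] (P : Sylow p G) {H K : Subgroup G}
    (hH : IsCoatom H) (hK : IsCoatom K) (hne : H ≠ K) (hPH : (P : Subgroup G) ≤ H)
    (hPK : (P : Subgroup G) ≤ K) : Row p G := by
  refine Row.of_two P hH.1 hK.1 hPH hPK ?_
  by_contra ht
  rcases hH.le_iff.mp (le_sup_left : H ≤ H ⊔ K) with h1 | h1
  · exact ht h1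
  · rcases hK.le_iff.mp (le_sup_right : K ≤ H ⊔ K) with h2 | h2
    · exact ht h2
    · exact hne (h1.symm.trans h2)

/-- Elements commuting with `x`, when `O_p(C(x)) = 1`. -/
theorem Bad.cent_eq_one (h : Bad p C) {x : G} (hx : centralizer ({x} : Set G) ≠ ⊤)
    (hO : NoCore p (centralizer ({x} : Set G))) {c : G} (hc : c ∈ C) (hcom : x * c = c * x) :
    c = 1 := by
  refine h.eq_one_of_core hx hO hc ?_
  rw [mem_centralizer_iff]
  rintro y rfl
  exact hcom

section simple

variable [IsSimpleGroup G]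

/-- If no nontrivial element of `C` commutes with an element of order `s`, then none normalizes
a nontrivial `s`-subgroup. -/
theorem Bad.not_normalize [Finite G] (h : Bad p C) (hna : ∃ x y : G, x * y ≠ y * x) (hp : p.Prime)
    {s : ℕ} (hs : s.Prime) (hsp : s ≠ p)
    (hall : ∀ x : G, orderOf x = s → ∀ c ∈ C, x * c = c * x → c = 1) {R : Subgroup G}
    (hR : IsPGroup s ↥R) (hR1 : R ≠ ⊥) {c : G} (hc : c ∈ C) (hc1 : c ≠ 1)
    (hn : ∀ r ∈ R, c⁻¹ * r * c ∈ R) : False := by
  have : Fact s.Prime := ⟨hs⟩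
  have hnt : Nontrivial R := (Subgroup.nontrivial_iff_ne_bot R).mpr hR1
  have hZ : Nontrivial (center R) := hR.center_nontrivial
  have hZp : IsPGroup s (center R) := hR.to_subgroup _
  have hdvd : s ∣ Nat.card (center R) := by
    obtain ⟨n, hn⟩ := IsPGroup.iff_card.mp hZp
    rw [hn]
    refine dvd_pow_self s ?_
    rintro rfl
    rw [pow_zero] at hn
    exact absurd hn (Finite.one_lt_card (α := center R)).ne'
  obtain ⟨z, hz⟩ := exists_prime_orderOf_dvd_card' s hdvd
  set x : G := ((z : R) : G) with hx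
  have hxo : orderOf x = s := by
    rw [hx, Subgroup.orderOf_coe, Subgroup.orderOf_coe, hz]
  refine h.not_commute_conj hna hp hs hsp hxo (fun c hc => hall x hxo c hc) hc hc1 ?_
  have h1 : (z : R) * ⟨c⁻¹ * x * c, hn x (z : R).2⟩ = ⟨c⁻¹ * x * c, hn x (z : R).2⟩ * (z : R) :=
    (mem_center_iff.mp z.2 ⟨c⁻¹ * x * c, hn x (z : R).2⟩).symm
  exact congrArg Subtype.val h1

/-- `⟨c, c^g⟩ = G` for `g ∉ M c`. -/
theorem Bad.closure_pair (h : Bad p C) (hna : ∃ x y : G, x * y ≠ y * x) {c : G} (hc : c ∈ C)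
    (hc1 : c ≠ 1) {g : G} (hg : g ∉ h.M hc hc1) : closure ({c, g⁻¹ * c * g} : Set G) = ⊤ := by
  by_contra hne
  apply hg
  apply h.mem_M_of_conj hna hc hc1
  exact h.le_M hc hc1 hne (subset_closure (by simp)) (subset_closure (by simp))

/-- some element is outside `M c` -/
theorem Bad.exists_not_mem (h : Bad p C) {c : G} (hc : c ∈ C) (hc1 : c ≠ 1) :
    ∃ g : G, g ∉ h.M hc hc1 := by
  by_contra hcon
  push Not at hcon
  exact h.M_ne hc hc1 (eq_top_iff.mpr fun g _ => hcon g)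

/-- two involutions do not generate a nonabelian simple group -/
theorem closure_inv_ne_top (hna : ∃ x y : G, x * y ≠ y * x) {a b : G} (ha : a * a = 1)
    (hb : b * b = 1) : closure ({a, b} : Set G) ≠ ⊤ := by
  intro ht
  have hnor : (zpowers (a * b)).Normal := by
    rw [← normalizer_eq_top_iff, eq_top_iff, ← ht, closure_le]
    have key : ∀ y : G, y * y = 1 → (y * (a * b) * y⁻¹ = (a * b)⁻¹) →
        y ∈ normalizer (zpowers (a * b) : Set G) := by
      intro y hy hyc
      have hyi : y⁻¹ = y := inv_eq_of_mul_eq_one_left hy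
      have h1 : ∀ z ∈ zpowers (a * b), y * z * y⁻¹ ∈ zpowers (a * b) := by
        rintro z ⟨n, rfl⟩
        refine ⟨-n, ?_⟩
        show (a * b) ^ (-n) = y * (a * b) ^ n * y⁻¹
        rw [zpow_neg, ← inv_zpow, ← hyc, conj_zpow]
      rw [mem_normalizer_iff]
      intro z
      refine ⟨h1 z, fun hz => ?_⟩
      have h2 := h1 _ hz
      rw [hyi] at h2
      have h3 : y * (y * z * y) * y = (y * y) * z * (y * y) := by group
      rw [h3, hy] at h2
      simpa using h2
    have hai : a⁻¹ = a := inv_eq_of_mul_eq_one_left ha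
    have hbi : b⁻¹ = b := inv_eq_of_mul_eq_one_left hb
    intro y hy
    rcases hy with rfl | hy
    · apply key _ ha
      rw [mul_inv_rev, hai, hbi, ← mul_assoc, ha, one_mul]
    · rw [Set.mem_singleton_iff] at hy
      subst hy
      apply key _ hb
      rw [mul_inv_rev, hai, hbi, mul_assoc, mul_assoc, hb, mul_one]
  obtain ⟨x, y, hxy⟩ := hna
  rcases hnor.eq_bot_or_eq_top with h1 | h1
  · rw [zpowers_eq_bot] at h1
    have hab : a = b := by
      have : a = a * (b * b) := by rw [hb, mul_one]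
      rw [this, ← mul_assoc, h1, one_mul]
    rw [hab, Set.pair_eq_singleton] at ht
    have hx : x ∈ closure ({b} : Set G) := ht ▸ mem_top x
    have hy : y ∈ closure ({b} : Set G) := ht ▸ mem_top y
    rw [mem_closure_singleton] at hx hy
    obtain ⟨m, rfl⟩ := hx
    obtain ⟨n, rfl⟩ := hy
    exact hxy (by rw [← zpow_add, ← zpow_add, add_comm])
  · have hx : x ∈ zpowers (a * b) := h1 ▸ mem_top x
    have hy : y ∈ zpowers (a * b) := h1 ▸ mem_top y
    obtain ⟨m, rfl⟩ := hx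
    obtain ⟨n, rfl⟩ := hy
    exact hxy (by simp only [← zpow_add, add_comm])

/-- `C` has no involutions. -/
theorem Bad.sq_ne_one (h : Bad p C) (hna : ∃ x y : G, x * y ≠ y * x) {c : G} (hc : c ∈ C)
    (hc1 : c ≠ 1) : c * c ≠ 1 := by
  intro hcc
  obtain ⟨g, hg⟩ := h.exists_not_mem hc hc1
  refine closure_inv_ne_top hna hcc ?_ (h.closure_pair hna hc hc1 hg)
  have : g⁻¹ * c * g * (g⁻¹ * c * g) = g⁻¹ * (c * c) * g := by group
  rw [this, hcc]; simp

/-- No nontrivial `p`-element is conjugate to its inverse (and `G` has an involution). -/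
theorem Row.of_not_real (hna : ∃ x y : G, x * y ≠ y * x) {t : G} (ht : t * t = 1) (ht1 : t ≠ 1)
    (hreal : ∀ u : G, u ≠ 1 → (∃ k : ℕ, u ^ p ^ k = 1) → ∀ g : G, g * u * g⁻¹ ≠ u⁻¹) : Row p G := by
  intro C hC
  obtain ⟨u, hu, hu1, hut⟩ := hC.exists_inverted hna ht ht1
  refine hreal u hu1 (hC.pel u hu) t ?_
  rw [inv_eq_of_mul_eq_one_left ht]
  exact hut

end simple

end Cfsg.Agent.H534.CC
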