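import Mathlib

/-!
# Commutator closed sets of `p`-elements (S3828)

`Bad p C` : `C` is the set of a minimal counterexample in a simple group.  `Row p G` : the group `G`
has no such set.
-/

set_option autoImplicit false

namespace Cfsg.Agent.H534.CC

open Subgroup

/-- `C` is a nontrivial normal set of `p`-elements, closed under commutators (and squares, if
`p = 5`), such that for every proper subgroup `H` the elements of `C` in `H` lie in normal
`p`-subgroups of `H`, and every nontrivial element of `C` lies in a largest proper subgroup. -/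
structure Bad (p : ℕ) {G : Type*} [Group G] (C : Set G) : Prop where
  ex : ∃ c ∈ C, c ≠ 1
  conj : ∀ g : G, ∀ c ∈ C, g * c * g⁻¹ ∈ C
  pel : ∀ c ∈ C, ∃ k : ℕ, c ^ p ^ k = 1
  comm : ∀ c ∈ C, ∀ d ∈ C, c⁻¹ * d⁻¹ * c * d ∈ C
  inv : ∀ c ∈ C, c⁻¹ ∈ C
  core : ∀ H : Subgroup G, H ≠ ⊤ → ∀ c ∈ C, c ∈ H → ∃ Q : Subgroup G, c ∈ Q ∧ Q ≤ H ∧
    (∀ h ∈ H, ∀ q ∈ Q, h * q * h⁻¹ ∈ Q) ∧ IsPGroup p ↥Q
  uniq : ∀ c ∈ C, c ≠ 1 → ∃ M : Subgroup G, M ≠ ⊤ ∧ ∀ H : Subgroup G, H ≠ ⊤ → c ∈ H → H ≤ M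
  sq : p = 5 → ∀ c ∈ C, c ^ 2 ∈ C

/-- The row predicate: no bad sets. -/
def Row (p : ℕ) (G : Type*) [Group G] : Prop := ∀ C : Set G, ¬ Bad p C

variable {p : ℕ} {G : Type*} [Group G] {C : Set G}

theorem Bad.one_mem (h : Bad p C) : (1 : G) ∈ C := by
  obtain ⟨c, hc, -⟩ := h.ex
  simpa [mul_assoc] using h.comm c hc c hc

/-- conjugation on the right -/
theorem Bad.conj' (h : Bad p C) (g : G) {c : G} (hc : c ∈ C) : g⁻¹ * c * g ∈ C := by
  simpa using h.conj g⁻¹ c hc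

theorem Bad.conj_iff (h : Bad p C) (g : G) {c : G} : g * c * g⁻¹ ∈ C ↔ c ∈ C := by
  refine ⟨fun hc => ?_, h.conj g c⟩
  have := h.conj' g hc
  simpa [mul_assoc] using this

/-- `[c, c^x]` -/
theorem Bad.comm_conj_mem (h : Bad p C) {c : G} (hc : c ∈ C) (x : G) :
    c⁻¹ * (x⁻¹ * c⁻¹ * x) * c * (x⁻¹ * c * x) ∈ C := by
  have h1 := h.comm c hc _ (h.conj' x hc)
  have h2 : (x⁻¹ * c * x)⁻¹ = x⁻¹ * c⁻¹ * x := by group
  rwa [h2] at h1

/-- an element of `C` in a proper subgroup without normal `p`-subgroups is trivial -/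
theorem Bad.eq_one_of_core (h : Bad p C) {H : Subgroup G} (hH : H ≠ ⊤)
    (hO : ∀ Q : Subgroup G, Q ≤ H → (∀ x ∈ H, ∀ q ∈ Q, x * q * x⁻¹ ∈ Q) → IsPGroup p ↥Q → Q = ⊥)
    {c : G} (hc : c ∈ C) (hcH : c ∈ H) : c = 1 := by
  obtain ⟨Q, hcQ, hQH, hn, hQ⟩ := h.core H hH c hc hcH
  rw [hO Q hQH hn hQ, mem_bot] at hcQ
  exact hcQ

/-- two proper subgroups with a common nontrivial element of `C` generate a proper subgroup -/
theorem Bad.sup_ne_top (h : Bad p C) {c : G} (hc : c ∈ C) (hc1 : c ≠ 1) {H K : Subgroup G}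
    (hH : H ≠ ⊤) (hK : K ≠ ⊤) (hcH : c ∈ H) (hcK : c ∈ K) : H ⊔ K ≠ ⊤ := by
  obtain ⟨M, hM, hle⟩ := h.uniq c hc hc1
  intro ht
  exact hM (top_le_iff.mp (ht ▸ sup_le (hle H hH hcH) (hle K hK hcK)))

/-- The choice of the largest proper overgroup. -/
noncomputable def Bad.M (h : Bad p C) {c : G} (hc : c ∈ C) (hc1 : c ≠ 1) : Subgroup G :=
  (h.uniq c hc hc1).choose

theorem Bad.M_ne (h : Bad p C) {c : G} (hc : c ∈ C) (hc1 : c ≠ 1) : h.M hc hc1 ≠ ⊤ :=
  (h.uniq c hc hc1).choose_spec.1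

theorem Bad.le_M (h : Bad p C) {c : G} (hc : c ∈ C) (hc1 : c ≠ 1) {H : Subgroup G} (hH : H ≠ ⊤)
    (hcH : c ∈ H) : H ≤ h.M hc hc1 :=
  (h.uniq c hc hc1).choose_spec.2 H hH hcH

section simple

variable [IsSimpleGroup G]

theorem Bad.not_comm' (h : Bad p C) (hna : ∃ x y : G, x * y ≠ y * x) {c : G} (hc1 : c ≠ 1) :
    centralizer ({c} : Set G) ≠ ⊤ := by
  intro ht
  have hz : c ∈ center G := by
    rw [mem_center_iff]
    intro g
    have : g ∈ centralizer ({c} : Set G) := ht ▸ mem_top g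
    rw [mem_centralizer_iff] at this
    exact (this c rfl).symm
  rcases (inferInstance : (center G).Normal).eq_bot_or_eq_top with hb | ht'
  · rw [hb, mem_bot] at hz
    exact hc1 hz
  · obtain ⟨x, y, hxy⟩ := hna
    have : x ∈ center G := ht' ▸ mem_top x
    exact hxy ((mem_center_iff.mp this y).symm)

theorem Bad.mem_M (h : Bad p C) (hna : ∃ x y : G, x * y ≠ y * x) {c : G} (hc : c ∈ C)
    (hc1 : c ≠ 1) : c ∈ h.M hc hc1 :=
  h.le_M hc hc1 (h.not_comm' hna hc1) (by simp [mem_centralizer_iff]) (by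
    simp [mem_centralizer_iff])

theorem Bad.centralizer_le_M (h : Bad p C) (hna : ∃ x y : G, x * y ≠ y * x) {c : G} (hc : c ∈ C)
    (hc1 : c ≠ 1) : centralizer ({c} : Set G) ≤ h.M hc hc1 :=
  h.le_M hc hc1 (h.not_comm' hna hc1) (by simp [mem_centralizer_iff])

theorem Bad.M_eq (h : Bad p C) (hna : ∃ x y : G, x * y ≠ y * x) {c d : G} (hc : c ∈ C)
    (hc1 : c ≠ 1) (hd : d ∈ C) (hd1 : d ≠ 1) (hdM : d ∈ h.M hc hc1) : h.M hd hd1 = h.M hc hc1 := by
  have h1 : h.M hc hc1 ≤ h.M hd hd1 := h.le_M hd hd1 (h.M_ne hc hc1) hdM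
  exact le_antisymm (h.le_M hc hc1 (h.M_ne hd hd1) (h1 (h.mem_M hna hc hc1))) h1

theorem conj_map_ne_top {M : Subgroup G} (hM : M ≠ ⊤) (x : G) :
    (M.map (MulAut.conj x).toMonoidHom) ≠ ⊤ := by
  intro ht
  apply hM
  rw [eq_top_iff]
  intro z _
  have hz : x * z * x⁻¹ ∈ M.map (MulAut.conj x).toMonoidHom := ht ▸ mem_top _
  obtain ⟨w, hw, hw'⟩ := hz
  have : w = z := by
    simp only [MulEquiv.coe_toMonoidHom, MulAut.conj_apply] at hw'
    have h5 : w = x⁻¹ * (x * w * x⁻¹) * x := by group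
    rw [h5, hw']; group
  exact this ▸ hw

/-- `M c` is its own normalizer, in the form: if `x⁻¹ c x` lies in `M c` then `x` lies in `M c`. -/
theorem Bad.mem_M_of_conj (h : Bad p C) (hna : ∃ x y : G, x * y ≠ y * x) {c : G} (hc : c ∈ C)
    (hc1 : c ≠ 1) {x : G} (hx : x⁻¹ * c * x ∈ h.M hc hc1) : x ∈ h.M hc hc1 := by
  have hd := h.conj' x hc
  have hd1 : x⁻¹ * c * x ≠ 1 := by
    intro h1
    apply hc1
    have : c = x * (x⁻¹ * c * x) * x⁻¹ := by group
    rw [this, h1]; simp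
  have he := h.M_eq hna hc hc1 hd hd1 hx
  have hcM := h.mem_M hna hc hc1
  -- conjugates of `M` by `x` and `x⁻¹`
  have h2 : ∀ y ∈ h.M hc hc1, x⁻¹ * y * x ∈ h.M hc hc1 := by
    intro y hy
    have hle := h.le_M hd hd1 (conj_map_ne_top (h.M_ne hc hc1) x⁻¹) ⟨c, hcM, by simp⟩
    rw [he] at hle
    exact hle ⟨y, hy, by simp⟩
  have h3 : ∀ y ∈ h.M hc hc1, x * y * x⁻¹ ∈ h.M hc hc1 := by
    intro y hy
    have hle := h.le_M hc hc1 (conj_map_ne_top (h.M_ne hc hc1) x) ⟨x⁻¹ * c * x, hx, by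
      simp [mul_assoc]⟩
    exact hle ⟨y, hy, by simp⟩
  have hxN : x ∈ normalizer (h.M hc hc1 : Set G) := by
    rw [mem_normalizer_iff]
    intro y
    refine ⟨h3 y, fun hy => ?_⟩
    have := h2 _ hy
    simpa [mul_assoc] using this
  by_contra hxM
  have hNt : normalizer (h.M hc hc1 : Set G) = ⊤ := by
    by_contra hne
    exact hxM (h.le_M hc hc1 hne (le_normalizer hcM) hxN)
  have hnor : (h.M hc hc1).Normal := normalizer_eq_top_iff.mp hNt
  rcases hnor.eq_bot_or_eq_top with hb | ht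
  · rw [hb, mem_bot] at hcM
    exact hc1 hcM
  · exact h.M_ne hc hc1 ht

/-- Commuting conjugates: if `c` commutes with `x⁻¹ c x` then `x ∈ M c`. -/
theorem Bad.mem_M_of_commute (h : Bad p C) (hna : ∃ x y : G, x * y ≠ y * x) {c : G} (hc : c ∈ C)
    (hc1 : c ≠ 1) {x : G} (hx : c * (x⁻¹ * c * x) = (x⁻¹ * c * x) * c) : x ∈ h.M hc hc1 := by
  refine h.mem_M_of_conj hna hc hc1 (h.centralizer_le_M hna hc hc1 ?_)
  rw [mem_centralizer_iff]
  rintro y rfl
  exact hx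

/-- **The commuting lemma.**  Let `x` have prime order `s ≠ p` and assume that no conjugate of `x`
commutes with a nontrivial element of `C`.  Then `x` does not commute with `c⁻¹ x c`,
`1 ≠ c ∈ C`. -/
theorem Bad.not_commute_conj (h : Bad p C) (hna : ∃ x y : G, x * y ≠ y * x) (hp : p.Prime)
    {s : ℕ} (hs : s.Prime) (hsp : s ≠ p) {x : G} (hx : orderOf x = s)
    (hxC : ∀ c ∈ C, x * c = c * x → c = 1) {c : G} (hc : c ∈ C) (hc1 : c ≠ 1)
    (hcom : x * (c⁻¹ * x * c) = (c⁻¹ * x * c) * x) : False := by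
  -- `y = c⁻¹ x c` commutes with `x` and `z = c⁻² x c²`
  set y := c⁻¹ * x * c with hy
  set z := c⁻¹ * y * c with hz
  have hyz : y * z = z * y := by
    have h1 : c⁻¹ * (x * y) * c = c⁻¹ * (y * x) * c := by rw [hcom]
    have h2 : c⁻¹ * (x * y) * c = y * z := by rw [hz, hy]; group
    have h3 : c⁻¹ * (y * x) * c = z * y := by rw [hz, hy]; group
    rw [← h2, ← h3, h1]
  have hu := h.comm_conj_mem hc x
  have hu' : c⁻¹ * (x⁻¹ * c⁻¹ * x) * c * (x⁻¹ * c * x) = y⁻¹ * z * y⁻¹ * x := by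
    rw [hz, hy]; group
  have hyu : Commute y (y⁻¹ * z * y⁻¹ * x) := by
    have c1 : Commute y y⁻¹ := (Commute.refl y).inv_right
    have c2 : Commute y z := hyz
    have c3 : Commute y x := hcom.symm
    exact ((c1.mul_right c2).mul_right c1).mul_right c3
  -- `x = c y c⁻¹` commutes with `c u c⁻¹`
  have hxu : x * (c * (y⁻¹ * z * y⁻¹ * x) * c⁻¹) = (c * (y⁻¹ * z * y⁻¹ * x) * c⁻¹) * x := by
    have h1 : x = c * y * c⁻¹ := by rw [hy]; group
    have h2 : c * (y * (y⁻¹ * z * y⁻¹ * x)) * c⁻¹ = c * ((y⁻¹ * z * y⁻¹ * x) * y) * c⁻¹ := by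
      rw [hyu.eq]
    calc x * (c * (y⁻¹ * z * y⁻¹ * x) * c⁻¹) = c * (y * (y⁻¹ * z * y⁻¹ * x)) * c⁻¹ := by
          nth_rw 1 [h1]; group
      _ = _ := h2
      _ = (c * (y⁻¹ * z * y⁻¹ * x) * c⁻¹) * (c * y * c⁻¹) := by group
      _ = _ := by rw [← h1]
  have hu1 : y⁻¹ * z * y⁻¹ * x = 1 := by
    have h1 : c * (y⁻¹ * z * y⁻¹ * x) * c⁻¹ ∈ C := by
      rw [← hu']; exact h.conj c _ hu
    have h2 := hxC _ h1 hxu
    have h3 : y⁻¹ * z * y⁻¹ * x = c⁻¹ * (c * (y⁻¹ * z * y⁻¹ * x) * c⁻¹) * c := by group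
    rw [h3, h2]; group
  -- so `c` commutes with `x⁻¹ c x` and `x ∈ M c`
  have hxM : x ∈ h.M hc hc1 := by
    apply h.mem_M_of_commute hna hc hc1
    have h1 : c⁻¹ * (x⁻¹ * c⁻¹ * x) * c * (x⁻¹ * c * x) = 1 := by rw [hu', hu1]
    have h2 : (x⁻¹ * c * x) * c * (c⁻¹ * (x⁻¹ * c⁻¹ * x) * c * (x⁻¹ * c * x))
        = c * (x⁻¹ * c * x) := by group
    rw [h1, mul_one] at h2
    exact h2.symm
  -- `[x, c]` is a `p`-element of order dividing `s`
  obtain ⟨Q, hcQ, -, hQn, hQ⟩ := h.core _ (h.M_ne hc hc1) c hc (h.mem_M hna hc hc1)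
  have h1 : x⁻¹ * y ∈ Q := by
    have h2 : x⁻¹ * c⁻¹ * x ∈ Q := by
      have := hQn x⁻¹ (inv_mem hxM) c⁻¹ (inv_mem hcQ)
      simpa using this
    have h3 : x⁻¹ * y = (x⁻¹ * c⁻¹ * x) * c := by rw [hy]; group
    rw [h3]
    exact mul_mem h2 hcQ
  obtain ⟨k, hk⟩ := hQ ⟨_, h1⟩
  have hk' : (x⁻¹ * y) ^ p ^ k = 1 := by
    simpa using congrArg (Subtype.val) hk
  have hs' : (x⁻¹ * y) ^ s = 1 := by
    have hc' : Commute x⁻¹ y := (show Commute x y from hcom).inv_left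
    rw [hc'.mul_pow]
    have h4 : y ^ s = 1 := by
      rw [hy]
      have : (c⁻¹ * x * c) ^ s = c⁻¹ * x ^ s * c := by
        have := conj_pow (a := c⁻¹) (b := x) (i := s)
        simpa using this
      rw [this, ← hx, pow_orderOf_eq_one]; simp
    rw [h4, inv_pow, ← hx, pow_orderOf_eq_one]; simp
  have hcop : Nat.Coprime (p ^ k) s := Nat.Coprime.pow_left _ ((Nat.coprime_primes hp hs).mpr hsp.symm)
  have h5 : orderOf (x⁻¹ * y) = 1 :=
    Nat.eq_one_of_dvd_coprimes hcop (orderOf_dvd_of_pow_eq_one hk') (orderOf_dvd_of_pow_eq_one hs')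
  rw [orderOf_eq_one_iff] at h5
  have h6 : y = x := by
    have : y = x * (x⁻¹ * y) := by group
    rw [this, h5, mul_one]
  apply hc1
  apply hxC c hc
  have h7 : c * y = x * c := by rw [hy]; group
  rw [h6] at h7
  exact h7.symm

/-- **The involution lemma.**  Every involution inverts a nontrivial element of `C`. -/
theorem Bad.exists_inverted (h : Bad p C) (hna : ∃ x y : G, x * y ≠ y * x) {t : G}
    (ht : t * t = 1) (ht1 : t ≠ 1) : ∃ u ∈ C, u ≠ 1 ∧ t * u * t = u⁻¹ := by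
  by_contra hcon
  push Not at hcon
  have hti : t⁻¹ = t := inv_eq_of_mul_eq_one_left ht
  -- all `c` commute with `c^t`
  have hall : ∀ c (hc : c ∈ C) (hc1 : c ≠ 1), t ∈ h.M hc hc1 := by
    intro c hc hc1
    apply h.mem_M_of_commute hna hc hc1
    have hu := h.comm_conj_mem hc t
    by_contra hne
    have hu1 : c⁻¹ * (t⁻¹ * c⁻¹ * t) * c * (t⁻¹ * c * t) ≠ 1 := by
      intro h1
      apply hne
      have h2 : (t⁻¹ * c * t) * c * (c⁻¹ * (t⁻¹ * c⁻¹ * t) * c * (t⁻¹ * c * t))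
          = c * (t⁻¹ * c * t) := by group
      rw [h1, mul_one] at h2
      exact h2.symm
    apply hcon _ hu hu1
    rw [hti]
    have e1 : t * (c⁻¹ * (t * c⁻¹ * t) * c * (t * c * t)) * t
        = (t * c⁻¹ * t) * (t * t) * c⁻¹ * (t * t) * (t * c * t) * (t * t) * c * (t * t) := by
      simp only [mul_assoc]
      have h1 : ∀ g : G, t * (t * g) = g := fun g => by rw [← mul_assoc, ht, one_mul]
      simp only [h1, ht, mul_one]
    rw [e1]
    simp only [ht, mul_one]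
    have h1 : ∀ g : G, t * (t * g) = g := fun g => by rw [← mul_assoc, ht, one_mul]
    simp only [mul_inv_rev, inv_inv, hti, mul_assoc, h1]
  -- the intersection of all `M c` is normal
  obtain ⟨c, hc, hc1⟩ := h.ex
  have hcore : t ∈ (h.M hc hc1).normalCore := by
    intro g
    have hd := h.conj' g hc
    have hd1 : g⁻¹ * c * g ≠ 1 := by
      intro h1
      apply hc1
      have : c = g * (g⁻¹ * c * g) * g⁻¹ := by group
      rw [this, h1]; simp
    have h1 := hall _ hd hd1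
    -- conjugate back
    have hle := h.le_M hc hc1 (conj_map_ne_top (h.M_ne hd hd1) g)
      ⟨g⁻¹ * c * g, h.mem_M hna hd hd1, by simp [mul_assoc]⟩
    exact hle ⟨t, h1, by simp⟩
  rcases (inferInstance : (h.M hc hc1).normalCore.Normal).eq_bot_or_eq_top with hb | ht'
  · rw [hb, mem_bot] at hcore
    exact ht1 hcore
  · apply h.M_ne hc hc1
    rw [eq_top_iff, ← ht']
    exact normalCore_le _

end simple

end Cfsg.Agent.H534.CC
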